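import Groth.Agent.QuotFun10.Exact
import Groth.Agent.QuotLib.Descend
import Groth.Agent.QuotLib.TrivHom
import Groth.Agent.AlgSpDec.SchImageChart
import Groth.Prelude.Def_StMod2

/-!
# The functions on a quotient stack over an affine quotient
-/

set_option backward.isDefEq.respectTransparency false
set_option backward.isDefEq.respectTransparency.types false

universe u

open CategoryTheory CategoryTheory.Functor CategoryTheory.Limits MonoidalCategory CartesianMonoidalCategory MonObj
  GrpObj AlgebraicGeometry AlgSp Opposite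

namespace Groth.Agent.QuotFun10

open Groth.Agent.QuotLib Groth.Agent.AlgSpDec

theorem appTop_injective_of_flat_surjective {A B : Scheme.{u}} (g : A ⟶ B) [Flat g] [Surjective g] :
    Function.Injective g.appTop := by
  rw [injective_iff_map_eq_zero]
  intro r hr
  refine TopCat.Presheaf.section_ext B.sheaf _ _ _ fun y hy => ?_
  obtain ⟨x, rfl⟩ := g.surjective y
  have hinj : Function.Injective (g.stalkMap x).hom := by
    have h := Flat.stalkMap g x
    algebraize [(g.stalkMap x).hom]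
    have : IsLocalHom (algebraMap (B.presheaf.stalk (g x)) (A.presheaf.stalk x)) :=
      inferInstanceAs <| IsLocalHom (g.stalkMap x).hom
    have : Module.FaithfullyFlat (B.presheaf.stalk (g x)) (A.presheaf.stalk x) :=
      Module.FaithfullyFlat.of_flat_of_isLocalHom
    exact FaithfulSMul.algebraMap_injective (B.presheaf.stalk (g x)) (A.presheaf.stalk x)
  refine hinj ?_
  show g.stalkMap x (B.presheaf.germ ⊤ (g x) hy r) = g.stalkMap x (B.presheaf.germ ⊤ _ hy 0)
  have h0 : g.app ⊤ r = 0 := hr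
  rw [Scheme.Hom.germ_stalkMap_apply, Scheme.Hom.germ_stalkMap_apply, h0, map_zero (g.app ⊤).hom]

variable {S : Scheme.{u}} {G : Over S} [GrpObj G] [Flat G.hom] [LocallyOfFinitePresentation G.hom] {X Y : Over S}
  {aX : AlgGrp.Action G X} [IsAffine X.left] [IsAffine Y.left] [IsAffine (G ⊗ X).left]
  (q : X ⟶ Y) (hex : InvExact aX.act.left (snd G X).left q.left)
  (w : aX.act ≫ q = snd G X ≫ q)
  (π : AlgSt.QuotSt Scheme.fppfPrecoverage G aX ⥤ᵇ AlgSt.ofSch Y)
  (hπ : BasedFunctor.comp (AlgSt.quotMap Scheme.fppfPrecoverage G aX) π = AlgSt.ofSpMap ((AlgSp.yon S).map q))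

include hπ in
theorem obj_triv {T : Over S} (x : T ⟶ X) : π.obj (triv Scheme.fppfPrecoverage G aX x) = ⟨T, ⟨x ≫ q⟩⟩ := by
  have h := congrArg (fun F : AlgSt.ofSch X ⥤ᵇ AlgSt.ofSch Y => F.obj ((AlgSt.ofOverCat X).obj (Over.mk x))) hπ
  exact h

variable {q π}

theorem baseOver_ext {ξ : (AlgSt.QuotSt Scheme.fppfPrecoverage G aX).obj} {o : (AlgSt.ofSch Y).obj}
    {α α' : π.obj ξ ⟶ o} (h : StMod.baseOver π ξ α = StMod.baseOver π ξ α') : α = α' :=
  Stk.EltObj.hom_ext ((cancel_epi (eqToHom (π.w_obj ξ).symm)).1 h)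

omit [Flat G.hom] [LocallyOfFinitePresentation G.hom] in
theorem eqToHom_comp_sec {T V : Over S} {o : (AlgSt.ofSch Y).obj} {y : T ⟶ Y} {e : V ⟶ Y}
    (ho : o = ⟨T, ⟨y⟩⟩) (h : T = o.base) :
    (∀ α : o ⟶ (⟨V, ⟨e⟩⟩ : (AlgSt.ofSch Y).obj), (eqToHom h ≫ α.hom) ≫ e = y) ∧
      ∀ v : T ⟶ V, v ≫ e = y → ∃ α : o ⟶ (⟨V, ⟨e⟩⟩ : (AlgSt.ofSch Y).obj), eqToHom h ≫ α.hom = v := by
  subst ho
  refine ⟨fun α => ?_, fun v hv => ⟨⟨v, congrArg ULift.up hv⟩, Category.id_comp _⟩⟩
  have h1 : α.hom ≫ e = y := congrArg ULift.down α.map_sec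
  rw [eqToHom_refl, Category.id_comp, h1]

include hπ in
theorem baseOver_triv {T V : Over S} {x : T ⟶ X} {e : V ⟶ Y}
    (α : π.obj (triv Scheme.fppfPrecoverage G aX x) ⟶ (⟨V, ⟨e⟩⟩ : (AlgSt.ofSch Y).obj)) :
    StMod.baseOver π _ α ≫ e = x ≫ q :=
  (eqToHom_comp_sec (obj_triv q π hπ x) (π.w_obj (triv Scheme.fppfPrecoverage G aX x)).symm).1 α

include hπ in
theorem exists_baseOver_triv {T V : Over S} {x : T ⟶ X} {e : V ⟶ Y} (v : T ⟶ V) (hv : v ≫ e = x ≫ q) :
    ∃ α : π.obj (triv Scheme.fppfPrecoverage G aX x) ⟶ (⟨V, ⟨e⟩⟩ : (AlgSt.ofSch Y).obj),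
      StMod.baseOver π _ α = v :=
  (eqToHom_comp_sec (obj_triv q π hπ x) (π.w_obj (triv Scheme.fppfPrecoverage G aX x)).symm).2 v hv

include hex w hπ in
theorem bijective_unitSect {V : Over S} (e : V ⟶ Y) [Flat e.left] :
    Function.Bijective (StMod.unitSect π (⟨V, ⟨e⟩⟩ : (AlgSt.ofSch Y).obj)) := by
  have w' : aX.act.left ≫ q.left = (snd G X).left ≫ q.left := congrArg CommaMorphism.left w
  let W : Over S := Over.mk (pullback.fst q.left e.left ≫ X.hom)
  let pX : W ⟶ X := Over.homMk (pullback.fst q.left e.left) rfl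
  let pV : W ⟶ V := Over.homMk (pullback.snd q.left e.left) (by
    show pullback.snd q.left e.left ≫ V.hom = pullback.fst q.left e.left ≫ X.hom
    rw [← Over.w q, pullback.condition_assoc, Over.w e])
  have sq : pV ≫ e = pX ≫ q := Over.OverMorphism.ext pullback.condition.symm
  obtain ⟨αW, hαW⟩ := exists_baseOver_triv hπ pV sq
  constructor
  · intro r r' hrr
    have h1 : (StMod.baseOver π _ αW).left.appTop r = (StMod.baseOver π _ αW).left.appTop r' :=
      congrArg (fun s : StMod.Mod.RelSect π (StMod.O _) _ => s.1 _ αW) hrr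
    rw [hαW] at h1
    obtain ⟨f, rfl⟩ := (fn_bijective V.left).2 r
    obtain ⟨f', rfl⟩ := (fn_bijective V.left).2 r'
    rw [← fn_comp, ← fn_comp] at h1
    exact congrArg fn (hom_ext_pullback hex w' e.left ((fn_bijective _).1 h1))
  · intro s
    obtain ⟨f, hf⟩ := (fn_bijective (pullback q.left e.left)).2 (s.1 _ αW)
    let W₂ : Over S := Over.mk (pullback.fst (aX.act.left ≫ q.left) e.left ≫ (G ⊗ X).hom)
    let p₂ : W₂ ⟶ G ⊗ X := Over.homMk (pullback.fst (aX.act.left ≫ q.left) e.left) rfl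
    let t' : W₂ ⟶ W := Over.homMk (pullback.map (aX.act.left ≫ q.left) e.left q.left e.left aX.act.left (𝟙 _) (𝟙 _)
      (by simp) (by simp)) (by
        show pullback.map _ _ _ _ _ _ _ _ _ ≫ pullback.fst q.left e.left ≫ X.hom = _
        rw [pullback.lift_fst_assoc, Category.assoc, Over.w aX.act]; rfl)
    let s' : W₂ ⟶ W := Over.homMk (pullback.map (aX.act.left ≫ q.left) e.left q.left e.left (snd G X).left (𝟙 _) (𝟙 _)
      (by rw [Category.comp_id]; exact w') (by simp)) (by
        show pullback.map _ _ _ _ _ _ _ _ _ ≫ pullback.fst q.left e.left ≫ X.hom = _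
        rw [pullback.lift_fst_assoc, Category.assoc, Over.w (snd G X)]; rfl)
    have ht : t' ≫ pX = p₂ ≫ aX.act := Over.OverMorphism.ext (pullback.lift_fst _ _ _)
    have hs : s' ≫ pX = p₂ ≫ snd G X := Over.OverMorphism.ext (pullback.lift_fst _ _ _)
    have htV : t' ≫ pV = s' ≫ pV := by
      refine Over.OverMorphism.ext ?_
      exact (pullback.lift_snd _ _ _).trans (pullback.lift_snd _ _ _).symm
    have inv : pullback.map (aX.act.left ≫ q.left) e.left q.left e.left aX.act.left (𝟙 _) (𝟙 _) (by simp) (by simp) ≫ f =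
        pullback.map (aX.act.left ≫ q.left) e.left q.left e.left (snd G X).left (𝟙 _) (𝟙 _)
          (by rw [Category.comp_id]; exact w') (by simp) ≫ f := by
      obtain ⟨h₁, hb₁, -⟩ := (hom_triv_iff (K := Scheme.fppfPrecoverage) (aX := aX) t' (t' ≫ pX) pX).2 1
        (Groth.Agent.GrpSchLib.act_one aX _)
      obtain ⟨h₂, hb₂, -⟩ := (hom_triv_iff (K := Scheme.fppfPrecoverage) (aX := aX) s' (t' ≫ pX) pX).2
        (p₂ ≫ fst G X) (by rw [hs, ht, ← comp_lift, lift_fst_snd, Category.comp_id])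
      have hα : π.map h₁ ≫ αW = π.map h₂ ≫ αW := by
        refine baseOver_ext ?_
        rw [← StMod.map_comp_baseOver, ← StMod.map_comp_baseOver, hαW]
        show h₁.base ≫ pV = h₂.base ≫ pV
        rw [hb₁, hb₂, htV]
      have k₁ := s.2 h₁ αW
      have k₂ := s.2 h₂ αW
      rw [hα] at k₁
      have k := k₁.trans k₂.symm
      rw [StMod.O_mapTop, StMod.O_mapTop] at k
      change h₁.base.left.appTop _ = h₂.base.left.appTop _ at k
      rw [hb₁, hb₂, ← hf, ← fn_comp, ← fn_comp] at k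
      exact (fn_bijective _).1 k
    obtain ⟨g, hg⟩ := exists_desc_pullback hex w' e.left f inv
    refine ⟨fn g, StMod.Mod.RelSect.ext _ _ _ fun ξ α => ?_⟩
    have key : ∀ (T : Over S) (x : T ⟶ X)
        (β : π.obj (triv Scheme.fppfPrecoverage G aX x) ⟶ (⟨V, ⟨e⟩⟩ : (AlgSt.ofSch Y).obj)),
        (StMod.baseOver π _ β).left.appTop (fn g) = s.1 _ β := by
      intro T x β
      let l₀ : T.left ⟶ pullback q.left e.left := pullback.lift x.left (StMod.baseOver π _ β).left
        (congrArg CommaMorphism.left (baseOver_triv hπ β)).symm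
      let l : T ⟶ W := Over.homMk l₀ (by
        show l₀ ≫ pullback.fst q.left e.left ≫ X.hom = _
        rw [pullback.lift_fst_assoc, Over.w x])
      have hlx : l ≫ pX = x := Over.OverMorphism.ext (pullback.lift_fst _ _ _)
      have hlv : l ≫ pV = StMod.baseOver π _ β := Over.OverMorphism.ext (pullback.lift_snd _ _ _)
      obtain ⟨h, hb, -⟩ := (hom_triv_iff (K := Scheme.fppfPrecoverage) (aX := aX) l x pX).2 1
        (by rw [hlx]; exact Groth.Agent.GrpSchLib.act_one aX _)
      have hβ : π.map h ≫ αW = β := by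
        refine baseOver_ext ?_
        rw [← StMod.map_comp_baseOver, hαW]
        show h.base ≫ pV = _
        rw [hb, hlv]
      have k := s.2 h αW
      rw [hβ, StMod.O_mapTop] at k
      change h.base.left.appTop _ = _ at k
      rw [hb, ← hf, ← hg, ← fn_comp] at k
      rw [← k, ← hlv, Over.comp_left, ← fn_comp, Category.assoc]
      rfl
    show (StMod.baseOver π ξ α).left.appTop (fn g) = s.1 ξ α
    let ψ := trivHom ξ (𝟙 ξ.P) ξ.φ (Category.id_comp _)
    have hψ : ψ.base = ξ.π := Category.id_comp _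
    have hfp := fppf_π ξ
    have : Flat ψ.base.left := by rw [hψ]; exact hfp.1.2
    have : Surjective ψ.base.left := by rw [hψ]; exact hfp.1.1
    apply appTop_injective_of_flat_surjective ψ.base.left
    have k := s.2 ψ α
    rw [StMod.O_mapTop] at k
    change ψ.base.left.appTop _ = _ at k
    rw [k, ← key, ← StMod.map_comp_baseOver]
    rfl

include hex w hπ in
theorem unitIsIso : StMod.UnitIsIso π := by
  intro E
  obtain ⟨e, he⟩ := (yon S).map_surjective E.obj.hom
  have : Etale e.left := (AlgSp.repWith_yon_map_iff @Etale e).1 (by rw [he]; exact E.property)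
  have : StMod.etaOf E = (⟨E.obj.left, ⟨e⟩⟩ : (AlgSt.ofSch Y).obj) := by
    unfold StMod.etaOf
    rw [← he]
    rfl
  rw [this]
  exact bijective_unitSect hex w hπ e

end Groth.Agent.QuotFun10
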