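import Groth.Agent.AlgSpDec.InvFun
import Mathlib.Algebra.Polynomial.Eval.Defs
import Mathlib.Algebra.Polynomial.AlgebraMap

/-!
# Exactness of invariant functions after flat base change to an arbitrary scheme
-/

set_option backward.isDefEq.respectTransparency false
set_option backward.isDefEq.respectTransparency.types false

universe u

open CategoryTheory Limits Opposite AlgebraicGeometry

namespace Groth.Agent.QuotFun10

open Groth.Agent.AlgSpDec

/-- The affine line over the integers. -/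
noncomputable abbrev A1 : Scheme.{u} := Spec (CommRingCat.of (Polynomial (ULift.{u} ℤ)))

/-- The function classified by a morphism to the affine line. -/
noncomputable def fn {T : Scheme.{u}} (f : T ⟶ A1) : Γ(T, ⊤) :=
  f.appTop ((Scheme.ΓSpecIso (CommRingCat.of (Polynomial (ULift.{u} ℤ)))).inv Polynomial.X)

theorem fn_comp {T T' : Scheme.{u}} (h : T' ⟶ T) (f : T ⟶ A1) : fn (h ≫ f) = h.appTop (fn f) := by
  simp [fn, Scheme.Hom.comp_appTop]

theorem fn_bijective (T : Scheme.{u}) : Function.Bijective (fn (T := T)) := by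
  constructor
  · intro f g h
    refine ext_of_isAffine ?_
    have h' : (Scheme.ΓSpecIso (CommRingCat.of (Polynomial (ULift.{u} ℤ)))).inv ≫ f.appTop =
        (Scheme.ΓSpecIso (CommRingCat.of (Polynomial (ULift.{u} ℤ)))).inv ≫ g.appTop := by
      refine CommRingCat.hom_ext (Polynomial.ringHom_ext' ?_ h)
      exact RingHom.ext fun a => by
        rw [show a = ((a.down : ℤ) : ULift.{u} ℤ) from rfl]; simp
    exact (cancel_epi _).1 h'
  · intro r
    refine ⟨T.toSpecΓ ≫ Spec.map (CommRingCat.ofHom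
      (Polynomial.eval₂RingHom ((Int.castRingHom Γ(T, ⊤)).comp ULift.ringEquiv.toRingHom) r)), ?_⟩
    rw [fn, Scheme.Hom.comp_appTop, CommRingCat.comp_apply, ← CommRingCat.comp_apply _ (Spec.map _).appTop,
      ← Scheme.ΓSpecIso_inv_naturality, CommRingCat.comp_apply]
    rw [Scheme.toSpecΓ_appTop, ← CommRingCat.comp_apply, Iso.inv_hom_id]
    simp

variable {R₂ R Y : Scheme.{u}} [IsAffine Y] [IsAffine R] [IsAffine R₂] {t s : R₂ ⟶ R} {π : R ⟶ Y}
  (hex : InvExact t s π) (w : t ≫ π = s ≫ π)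

section Affine

variable {V : Scheme.{u}} [IsAffine V] (h : V ⟶ Y) [Flat h]

include hex w in
theorem invExact_pullback :
    InvExact (pullback.map (t ≫ π) h π h t (𝟙 V) (𝟙 Y) (by simp) (by simp))
      (pullback.map (t ≫ π) h π h s (𝟙 V) (𝟙 Y) (by simp [w]) (by simp)) (pullback.snd π h) := by
  refine invExact_of_flat hex w h (IsPullback.of_hasPullback π h) (p₂ := pullback.fst (t ≫ π) h) ?_ ?_ ?_ ?_
  · rw [pullback.lift_snd, Category.comp_id]
    exact IsPullback.of_hasPullback _ _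
  · rw [pullback.lift_fst]
  · rw [pullback.lift_fst]
  · rw [pullback.lift_snd, pullback.lift_snd]

end Affine

section Restrict

variable {U V : Scheme.{u}} (j : U ⟶ V) (h : V ⟶ Y)

variable (π) in
/-- The map of base changes induced by `j`. -/
noncomputable abbrev resW : pullback π (j ≫ h) ⟶ pullback π h :=
  pullback.map π (j ≫ h) π h (𝟙 R) j (𝟙 Y) (by simp) (by simp)

end Restrict

variable {V : Scheme.{u}} (h : V ⟶ Y) [Flat h]

include hex w in
theorem hom_ext_pullback {g g' : V ⟶ A1} (hg : pullback.snd π h ≫ g = pullback.snd π h ≫ g') : g = g' := by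
  refine V.affineCover.hom_ext _ _ fun i => ?_
  refine (invExact_pullback hex w (V.affineCover.f i ≫ h)).hom_ext ?_
  have e : pullback.snd π (V.affineCover.f i ≫ h) ≫ V.affineCover.f i =
      resW π (V.affineCover.f i) h ≫ pullback.snd π h := by rw [pullback.lift_snd]
  rw [reassoc_of% e, reassoc_of% e, hg]

include hex w in
theorem exists_desc_pullback (f : pullback π h ⟶ A1)
    (hf : pullback.map (t ≫ π) h π h t (𝟙 V) (𝟙 Y) (by simp) (by simp) ≫ f =
      pullback.map (t ≫ π) h π h s (𝟙 V) (𝟙 Y) (by simp [w]) (by simp) ≫ f) :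
    ∃ g : V ⟶ A1, pullback.snd π h ≫ g = f := by
  let 𝒰 := V.affineCover
  have key : ∀ i, ∃ g : 𝒰.X i ⟶ A1,
      pullback.snd π (𝒰.f i ≫ h) ≫ g = resW π (𝒰.f i) h ≫ f := by
    intro i
    refine (invExact_pullback hex w (𝒰.f i ≫ h)).exists_desc _ ?_
    let m : pullback (t ≫ π) (𝒰.f i ≫ h) ⟶ pullback (t ≫ π) h :=
      pullback.map (t ≫ π) _ (t ≫ π) h (𝟙 R₂) (𝒰.f i) (𝟙 Y) (by simp) (by simp)
    have e₁ : pullback.map (t ≫ π) (𝒰.f i ≫ h) π (𝒰.f i ≫ h) t (𝟙 _) (𝟙 Y) (by simp) (by simp) ≫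
        resW π (𝒰.f i) h = m ≫ pullback.map (t ≫ π) h π h t (𝟙 V) (𝟙 Y) (by simp) (by simp) := by
      apply pullback.hom_ext <;> simp [m]
    have e₂ : pullback.map (t ≫ π) (𝒰.f i ≫ h) π (𝒰.f i ≫ h) s (𝟙 _) (𝟙 Y) (by simp [w]) (by simp) ≫
        resW π (𝒰.f i) h = m ≫ pullback.map (t ≫ π) h π h s (𝟙 V) (𝟙 Y) (by simp [w]) (by simp) := by
      apply pullback.hom_ext <;> simp [m]
    rw [reassoc_of% e₁, reassoc_of% e₂, hf]
  choose g hg using key
  have compat : ∀ i j, pullback.fst (𝒰.f i) (𝒰.f j) ≫ g i = pullback.snd (𝒰.f i) (𝒰.f j) ≫ g j := by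
    intro i j
    refine hom_ext_pullback hex w (pullback.fst (𝒰.f i) (𝒰.f j) ≫ 𝒰.f i ≫ h) ?_
    let a : pullback π (pullback.fst (𝒰.f i) (𝒰.f j) ≫ 𝒰.f i ≫ h) ⟶ pullback π (𝒰.f i ≫ h) :=
      resW π (pullback.fst (𝒰.f i) (𝒰.f j)) (𝒰.f i ≫ h)
    let b : pullback π (pullback.fst (𝒰.f i) (𝒰.f j) ≫ 𝒰.f i ≫ h) ⟶ pullback π (𝒰.f j ≫ h) :=
      pullback.map π _ π _ (𝟙 R) (pullback.snd (𝒰.f i) (𝒰.f j)) (𝟙 Y) (by simp)
        (by rw [Category.comp_id, pullback.condition_assoc])
    have ea : a ≫ pullback.snd π (𝒰.f i ≫ h) =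
        pullback.snd π _ ≫ pullback.fst (𝒰.f i) (𝒰.f j) := by rw [pullback.lift_snd]
    have eb : b ≫ pullback.snd π (𝒰.f j ≫ h) =
        pullback.snd π _ ≫ pullback.snd (𝒰.f i) (𝒰.f j) := by rw [pullback.lift_snd]
    have eab : a ≫ resW π (𝒰.f i) h = b ≫ resW π (𝒰.f j) h := by
      apply pullback.hom_ext
      · simp [a, b]
      · simp [a, b, pullback.condition]
    rw [← reassoc_of% ea, ← reassoc_of% eb, hg, hg, reassoc_of% eab]
  refine ⟨𝒰.glueMorphisms g compat, ?_⟩
  refine Scheme.Cover.hom_ext (𝒰.pullback₁ (pullback.snd π h)) _ _ fun i => ?_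
  let c : pullback (pullback.snd π h) (𝒰.f i) ⟶ pullback π (𝒰.f i ≫ h) :=
    pullback.lift (pullback.fst _ _ ≫ pullback.fst π h) (pullback.snd _ _) (by
      rw [Category.assoc, pullback.condition, pullback.condition_assoc])
  have ec : c ≫ resW π (𝒰.f i) h = pullback.fst _ _ := by
    apply pullback.hom_ext <;> simp [c, pullback.condition]
  show pullback.fst _ _ ≫ pullback.snd π h ≫ _ = pullback.fst _ _ ≫ f
  rw [pullback.condition_assoc, Scheme.Cover.ι_glueMorphisms, ← ec, Category.assoc, ← hg, ← Category.assoc,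
    pullback.lift_snd]

end Groth.Agent.QuotFun10
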